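import Groth.Agent.CAlgH.IdempotentIntegralClosure
import Groth.Agent.CAlgMisc2.Nbhd
import Mathlib

/-!
# Generalities for lifting finite etale algebras to etale neighbourhoods
-/

set_option autoImplicit false

universe u

open TensorProduct Polynomial

namespace Groth.Agent.EtNbhdFin

/-- An element idempotent modulo `I` of a finite algebra is killed by a monic polynomial congruent to
`X^d (X-1)^d`. -/
theorem exists_monic_annihilator {A D : Type u} [CommRing A] [CommRing D] [Algebra A D] [Module.Finite A D]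
    (I : Ideal A) (g : D) (hg : g ^ 2 - g ∈ I.map (algebraMap A D)) :
    ∃ (f : A[X]) (d : ℕ), f.Monic ∧ 1 ≤ d ∧ aeval g f = 0 ∧
      f.map (Ideal.Quotient.mk I) = X ^ d * (X - 1) ^ d := by
  rcases subsingleton_or_nontrivial A with hA | hA
  · exact ⟨1, 1, monic_one, le_rfl, by rw [Subsingleton.elim (1 : A[X]) 0, map_zero],
      Subsingleton.elim _ _⟩
  let φ : Module.End A D := Algebra.lmul A D (g ^ 2 - g)
  have hφ : LinearMap.range φ ≤ I • ⊤ := by
    rintro _ ⟨x, rfl⟩
    rw [Ideal.smul_top_eq_map]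
    exact Ideal.mul_mem_right _ _ hg
  obtain ⟨p, hp, -, hc, hpa⟩ := LinearMap.exists_monic_and_natDegree_eq_and_coeff_mem_pow_and_aeval_eq_zero A φ I hφ
  have hpa' : aeval (g ^ 2 - g) p = 0 := by
    refine Algebra.lmul_injective (R := A) ?_
    rw [map_zero, ← Polynomial.aeval_algHom_apply]
    exact hpa
  have hpm : p.map (Ideal.Quotient.mk I) = X ^ p.natDegree := by
    refine Polynomial.ext fun k => ?_
    rw [coeff_map, coeff_X_pow]
    rcases lt_trichotomy k p.natDegree with h | h | h
    · rw [if_neg h.ne, Ideal.Quotient.eq_zero_iff_mem]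
      exact Ideal.pow_le_self (by omega) (hc k)
    · rw [if_pos h, h, hp.coeff_natDegree, map_one]
    · rw [if_neg h.ne', coeff_eq_zero_of_natDegree_lt h, map_zero]
  have hX : (X * X - X : A[X]).Monic :=
    (monic_X.mul monic_X).sub_of_left (by rw [degree_mul' (by simp), degree_X]; decide)
  have hdeg : (X * X - X : A[X]).natDegree = 2 := by
    refine natDegree_eq_of_le_of_coeff_ne_zero (by compute_degree) ?_
    simp [coeff_X]
  refine ⟨p.comp (X * X - X) * (X * X - X), p.natDegree + 1, (hp.comp hX (by omega)).mul hX, by omega, ?_, ?_⟩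
  · rw [map_mul, aeval_comp, map_sub, map_mul, aeval_X, ← pow_two, hpa', zero_mul]
  · rw [Polynomial.map_mul, Polynomial.map_comp, hpm]
    simp only [X_pow_comp, Polynomial.map_sub, Polynomial.map_mul, map_X]
    rw [show (X * X - X : (A ⧸ I)[X]) = X * (X - 1) by ring, ← mul_pow, pow_succ]

/-- A piece of the integral closure containing a good element, finite as a module. -/
theorem exists_finite_piece {A C : Type u} [CommRing A] [CommRing C] [Algebra A C] [Algebra.FiniteType A C]
    (I : Ideal A) [Module.Finite A (C ⧸ I.map (algebraMap A C))] :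
    ∃ (D : Subalgebra A C) (_ : Module.Finite A D) (g : D),
      g ^ 2 - g ∈ I.map (algebraMap A D) ∧ (g : C) - 1 ∈ I.map (algebraMap A C) ∧
      ∀ x : C, ∃ m, (g : C) ^ m * x ∈ D := by
  classical
  haveI : Module.Finite A (C ⧸ (I.map (algebraMap A C) ⊔ Ideal.span {1 - (1 : C)})) :=
    Module.Finite.of_surjective (Ideal.Quotient.factorₐ A (le_sup_left : I.map (algebraMap A C) ≤ _)).toLinearMap
      (Ideal.Quotient.factor_surjective le_sup_left)
  obtain ⟨g, hg, hg1, hgen⟩ := CAlgH.IdempotentIC.exists_lift (I := I) (1 : C) (by simp) this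
  obtain ⟨s, hs⟩ := (inferInstance : Algebra.FiniteType A C).out
  choose m hm using hgen
  obtain ⟨N, a, b, hab⟩ : ∃ (N : ℕ) (a : Fin N → A) (b : Fin N → integralClosure A C),
      (∀ i, a i ∈ I) ∧ g ^ 2 - g = ∑ i, algebraMap A _ (a i) * b i := by
    obtain ⟨N, f, v, hv⟩ := Submodule.mem_span_set'.1 hg
    exact ⟨N, fun i => (v i).2.choose, f, fun i => (v i).2.choose_spec.1, by
      rw [← hv]
      refine Finset.sum_congr rfl fun i _ => ?_
      rw [smul_eq_mul, (v i).2.choose_spec.2, mul_comm]⟩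
  let S : Finset C := insert (g : C) ((s.image fun x => (g : C) ^ m x * x) ∪ Finset.univ.image fun i => (b i : C))
  have hS : ∀ x ∈ S, IsIntegral A x := by
    intro x hx
    simp only [S, Finset.mem_insert, Finset.mem_union, Finset.mem_image, Finset.mem_univ, true_and] at hx
    rcases hx with rfl | ⟨y, -, rfl⟩ | ⟨i, rfl⟩
    · exact g.2
    · exact hm y
    · exact (b i).2
  let D := Algebra.adjoin A (S : Set C)
  haveI : Module.Finite A D :=
    Module.Finite.iff_fg.mpr (fg_adjoin_of_finite S.finite_toSet fun x hx => hS x hx)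
  have hgD : (g : C) ∈ D := Algebra.subset_adjoin (by simp [S])
  have hbD : ∀ i, (b i : C) ∈ D := fun i => Algebra.subset_adjoin (by simp [S])
  refine ⟨D, inferInstance, ⟨g, hgD⟩, ?_, hg1, fun x => ?_⟩
  · have : (⟨g, hgD⟩ : D) ^ 2 - ⟨g, hgD⟩ = ∑ i, algebraMap A D (a i) * ⟨b i, hbD i⟩ := Subtype.ext (by
      have := congrArg (Subtype.val : integralClosure A C → C) hab.2
      simpa using this)
    rw [this]
    exact Ideal.sum_mem _ fun i _ => Ideal.mul_mem_right _ _ (Ideal.mem_map_of_mem _ (hab.1 i))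
  · have hx : x ∈ Algebra.adjoin A (s : Set C) := by rw [hs]; trivial
    induction hx using Algebra.adjoin_induction with
    | mem x hx => exact ⟨m x, Algebra.subset_adjoin (by simp [S]; exact Or.inr (Or.inl ⟨x, hx, rfl⟩))⟩
    | algebraMap r => exact ⟨0, by rw [pow_zero, one_mul]; exact D.algebraMap_mem r⟩
    | add x y _ _ hx hy =>
      obtain ⟨i, hi⟩ := hx
      obtain ⟨j, hj⟩ := hy
      refine ⟨i + j, ?_⟩
      rw [show (g : C) ^ (i + j) * (x + y) = (g : C) ^ j * ((g : C) ^ i * x) + (g : C) ^ i * ((g : C) ^ j * y) by ring]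
      exact add_mem (mul_mem (pow_mem hgD _) hi) (mul_mem (pow_mem hgD _) hj)
    | mul x y _ _ hx hy =>
      obtain ⟨i, hi⟩ := hx
      obtain ⟨j, hj⟩ := hy
      refine ⟨i + j, ?_⟩
      rw [show (g : C) ^ (i + j) * (x * y) = ((g : C) ^ i * x) * ((g : C) ^ j * y) by ring]
      exact mul_mem hi hj

end Groth.Agent.EtNbhdFin
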