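import Groth.Agent.EtNbhdFin.Alg
import Groth.Agent.HenselLib.EtaleLift

/-!
# Finite etale algebras over `A ⧸ I` lift to etale neighbourhoods of `(A, I)`
-/

set_option autoImplicit false
set_option linter.style.haveILetI false

universe u

open TensorProduct Polynomial

namespace Groth.Agent.EtNbhdFin

open HenselLib CAlgMisc2

set_option maxHeartbeats 2000000 in
theorem exists_finiteEtale_lift_nbhd (A : Type u) [CommRing A] (I : Ideal A) (B₀ : Type u) [CommRing B₀]
    [Algebra (A ⧸ I) B₀] [Module.Finite (A ⧸ I) B₀] [Algebra.Etale (A ⧸ I) B₀] :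
    ∃ (A' : Type u) (_ : CommRing A') (_ : Algebra A A') (_ : Algebra.Etale A A') (θA : A' →ₐ[A] A ⧸ I)
      (B : Type u) (_ : CommRing B) (_ : Algebra A' B) (θB : B →+* B₀),
      RingHom.ker θA = I.map (algebraMap A A') ∧ Module.Finite A' B ∧ Algebra.Etale A' B ∧
      Function.Surjective θB ∧
      RingHom.ker θB = (I.map (algebraMap A A')).map (algebraMap A' B) ∧
      ∀ x, θB (algebraMap A' B x) = algebraMap (A ⧸ I) B₀ (θA x) := by
  classical
  obtain ⟨C, _, _, _, θ, hθ, hker, hθc⟩ := exists_etale_lift A I B₀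
  letI : Algebra A B₀ := ((algebraMap (A ⧸ I) B₀).comp (Ideal.Quotient.mk I)).toAlgebra
  haveI : IsScalarTower A (A ⧸ I) B₀ := IsScalarTower.of_algebraMap_eq fun a => rfl
  haveI : Module.Finite A B₀ := Module.Finite.trans (A ⧸ I) B₀
  let θC : C →ₐ[A] B₀ := { θ with commutes' := hθc }
  let e₁ : (C ⧸ I.map (algebraMap A C)) ≃ₐ[A] B₀ :=
    (Ideal.quotientEquivAlgOfEq A hker.symm).trans (Ideal.quotientKerAlgEquivOfSurjective (f := θC) hθ)
  haveI : Module.Finite A (C ⧸ I.map (algebraMap A C)) := Module.Finite.equiv e₁.symm.toLinearEquiv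
  obtain ⟨D, hDfin, g, hg, hg1, hgen⟩ := exists_finite_piece (C := C) I
  haveI := hDfin
  -- split off the piece over an etale neighbourhood
  obtain ⟨f, d, hfm, hd, hfg, hfI⟩ := exists_monic_annihilator I g hg
  have hm1 : ((X - 1 : (A ⧸ I)[X]) ^ d).Monic := by
    have := monic_X_sub_C (1 : A ⧸ I)
    rw [map_one] at this
    exact this.pow d
  have hcop : IsCoprime ((X : (A ⧸ I)[X]) ^ d) ((X - 1 : (A ⧸ I)[X]) ^ d) :=
    IsCoprime.pow ⟨1, -1, by ring⟩
  obtain ⟨Q, _, _, _, pt, p, q, hQ, hpm, hqm, hco, hfac, hpI, hqI⟩ :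
      ∃ (Q : Type u) (_ : CommRing Q) (_ : Algebra A Q) (_ : Algebra.Etale A Q) (pt : Q →ₐ[A] A ⧸ I) (p q : Q[X]),
        RingHom.ker pt = I.map (algebraMap A Q) ∧ p.Monic ∧ q.Monic ∧ IsCoprime p q ∧
        f.map (algebraMap A Q) = p * q ∧
        p.map (Ideal.Quotient.mk (I.map (algebraMap A Q))) = X ^ d ∧
        q.map (Ideal.Quotient.mk (I.map (algebraMap A Q))) = (X - 1) ^ d := by
    obtain ⟨P, p, q, hQ, hpm, hqm, hco, hfac, hpI, hqI⟩ := exists_factor_nbhd I f hfm _ _
      (monic_X_pow d) hm1 hcop hfI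
    exact ⟨P.Ring, inferInstance, inferInstance, inferInstance, P.pt, p, q, hQ, hpm, hqm, hco, hfac,
      hpI.trans (by simp), hqI.trans (by simp)⟩
  let g' : (Q ⊗[A] D) := (1 : Q) ⊗ₜ[A] g
  let J := I.map (algebraMap A Q)
  let φ0 := algebraMap Q (Q ⊗[A] D)
  let JD := J.map φ0
  let ρ : (Q ⊗[A] D) →+* (Q ⊗[A] D) ⧸ JD := Ideal.Quotient.mk JD
  have hρg : IsIdempotentElem (ρ g') := by
    show ρ g' * ρ g' = ρ g'
    rw [← map_mul, Ideal.Quotient.eq]
    show g' * g' - g' ∈ _
    have e : g' * g' - g' = (Algebra.TensorProduct.includeRight : D →ₐ[A] (Q ⊗[A] D)) (g ^ 2 - g) := by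
      rw [map_sub, map_pow, pow_two]
      rfl
    rw [e]
    show _ ∈ (I.map (algebraMap A Q)).map (algebraMap Q (Q ⊗[A] D))
    rw [Ideal.map_map, ← IsScalarTower.algebraMap_eq A Q (Q ⊗[A] D)]
    exact mem_map_algHom _ I hg
  obtain ⟨ε, hε, hρε⟩ := exists_idempotent_of_factor ρ J
    (fun a ha => Ideal.Quotient.eq_zero_iff_mem.2 (Ideal.mem_map_of_mem _ ha)) hρg hd
    (f := f.map (algebraMap A Q)) (g := p) (h := q) (b := g') (by
      rw [aeval_map_algebraMap]
      show aeval ((Algebra.TensorProduct.includeRight : D →ₐ[A] (Q ⊗[A] D)) g) f = 0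
      rw [aeval_algHom_apply, hfg, map_zero]) hfac hco
    hpI hqI
  -- an element of `1 + J` in the ideal of `g'` on the piece
  have hεg : ε - g' ∈ J.map (algebraMap Q (Q ⊗[A] D)) := Ideal.Quotient.eq.1 hρε
  let M := (Q ⊗[A] D) ⧸ Ideal.span {1 - ε, g'}
  let π : (Q ⊗[A] D) →ₐ[Q] M := Ideal.Quotient.mkₐ Q (Ideal.span {1 - ε, g'})
  obtain ⟨a, ha, haM⟩ := Submodule.exists_sub_one_mem_and_smul_eq_zero_of_fg_of_le_smul J
    (⊤ : Submodule Q M) Module.Finite.fg_top (by
      rintro x -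
      obtain ⟨x, rfl⟩ := Ideal.Quotient.mk_surjective x
      have hz : x - x * (ε - g') ∈ Ideal.span {1 - ε, g'} := by
        rw [show x - x * (ε - g') = x * (1 - ε) + x * g' by ring]
        exact add_mem (Ideal.mul_mem_left _ _ (Ideal.subset_span (by simp)))
          (Ideal.mul_mem_left _ _ (Ideal.subset_span (by simp)))
      show Ideal.Quotient.mk _ x ∈ _
      rw [Ideal.Quotient.eq.2 hz]
      show π (x * (ε - g')) ∈ _
      have h0 : x * (ε - g') ∈ (J • ⊤ : Submodule Q (Q ⊗[A] D)) := by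
        rw [Ideal.smul_top_eq_map]
        exact Ideal.mul_mem_left _ _ hεg
      refine Submodule.smul_induction_on h0 (fun r hr n _ => ?_) fun u v hu hv => ?_
      · rw [map_smul]
        exact Submodule.smul_mem_smul hr trivial
      · rw [map_add]
        exact add_mem hu hv)
  have hamem : algebraMap Q (Q ⊗[A] D) a ∈ Ideal.span {1 - ε, g'} := by
    have := haM (π 1) trivial
    rw [← map_smul, ← Algebra.algebraMap_eq_smul_one] at this
    exact Ideal.Quotient.eq_zero_iff_mem.1 this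
  let t : (Q ⊗[A] D) := ε * algebraMap Q (Q ⊗[A] D) a
  obtain ⟨w, hw⟩ : g' ∣ t := by
    obtain ⟨x, y, hxy⟩ := Ideal.mem_span_pair.1 hamem
    refine ⟨y * ε, ?_⟩
    show ε * algebraMap Q (Q ⊗[A] D) a = _
    linear_combination (-ε) * hxy + (-x) * hε.eq
  let B := Localization.Away t
  have hut : IsUnit (algebraMap (Q ⊗[A] D) B t) := IsLocalization.Away.algebraMap_isUnit t
  have huε : algebraMap (Q ⊗[A] D) B ε = 1 := by
    have h1 : IsUnit (algebraMap (Q ⊗[A] D) B ε) := by
      refine isUnit_of_mul_isUnit_left (y := algebraMap (Q ⊗[A] D) B (algebraMap Q (Q ⊗[A] D) a)) ?_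
      rw [← map_mul]
      exact hut
    exact h1.mul_left_cancel (by rw [← map_mul, hε.eq, mul_one])
  have hug : IsUnit (algebraMap (Q ⊗[A] D) B g') := by
    refine isUnit_of_mul_isUnit_left (y := algebraMap (Q ⊗[A] D) B w) ?_
    rw [← map_mul, ← hw]
    exact hut
  have ht : algebraMap (Q ⊗[A] D) B t = algebraMap Q B a := by
    show algebraMap (Q ⊗[A] D) B (ε * algebraMap Q (Q ⊗[A] D) a) = _
    rw [map_mul, huε, one_mul, ← IsScalarTower.algebraMap_apply]
  -- the localisation of `C` at `g`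
  let E := Localization.Away (g : C)
  haveI : IsScalarTower A D E := inferInstance
  haveI : IsLocalization.Away g E := by
    refine ⟨⟨?_, fun z => ?_, fun {x y} h => ?_⟩⟩
    · rintro ⟨_, n, rfl⟩
      rw [map_pow]
      exact (IsLocalization.Away.algebraMap_isUnit (S := E) (g : C)).pow n
    · obtain ⟨c, ⟨_, n, rfl⟩, rfl⟩ := IsLocalization.exists_mk'_eq (Submonoid.powers (g : C)) z
      obtain ⟨m, hm⟩ := hgen c
      refine ⟨(⟨_, hm⟩, ⟨g ^ (n + m), ⟨_, rfl⟩⟩), ?_⟩
      show IsLocalization.mk' E c (⟨(g : C) ^ n, n, rfl⟩ : Submonoid.powers (g : C)) * algebraMap C E ((g : C) ^ (n + m)) =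
        algebraMap C E ((g : C) ^ m * c)
      rw [pow_add, map_mul, ← mul_assoc, map_mul _ ((g : C) ^ m) c, mul_comm (algebraMap C E ((g : C) ^ m))]
      exact congrArg (· * _) (IsLocalization.mk'_spec E c (⟨(g : C) ^ n, n, rfl⟩ : Submonoid.powers (g : C)))
    · obtain ⟨⟨_, n, rfl⟩, hc⟩ := IsLocalization.exists_of_eq (M := Submonoid.powers (g : C)) (S := E) h
      exact ⟨⟨g ^ n, ⟨n, rfl⟩⟩, Subtype.ext hc⟩
  haveI : Algebra.Etale A E := inferInstanceAs (Algebra.Etale A (Localization.Away (g : C)))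
  let T := Q ⊗[A] E
  let δ : (Q ⊗[A] D) →ₐ[Q] T := Algebra.TensorProduct.map (AlgHom.id Q Q) (IsScalarTower.toAlgHom A D E)
  let B' := Localization.Away (δ t)
  let E2B : E →ₐ[A] B := IsLocalization.Away.liftAlgHom g
    (f := (IsScalarTower.toAlgHom A (Q ⊗[A] D) B).comp (Algebra.TensorProduct.includeRight : D →ₐ[A] (Q ⊗[A] D))) hug
  have hE2B : ∀ x : D, E2B (algebraMap D E x) = algebraMap (Q ⊗[A] D) B ((1 : Q) ⊗ₜ[A] x) := fun x => by
    simp only [E2B, IsLocalization.Away.liftAlgHom_apply, IsLocalization.Away.lift_eq]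
    rfl
  let T2B : T →ₐ[Q] B := Algebra.TensorProduct.lift (Algebra.ofId Q B) E2B fun _ _ => Commute.all _ _
  have hT2B : T2B.comp δ = IsScalarTower.toAlgHom Q (Q ⊗[A] D) B := by
    refine Algebra.TensorProduct.ext (Algebra.ext_id _ _ _) (AlgHom.ext fun x => ?_)
    show T2B (δ ((1 : Q) ⊗ₜ[A] x)) = algebraMap (Q ⊗[A] D) B ((1 : Q) ⊗ₜ[A] x)
    rw [show δ ((1 : Q) ⊗ₜ[A] x) = (1 : Q) ⊗ₜ[A] algebraMap D E x from Algebra.TensorProduct.map_tmul _ _ _ _,
      show T2B ((1 : Q) ⊗ₜ[A] algebraMap D E x) = algebraMap Q B 1 * E2B (algebraMap D E x) from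
        Algebra.TensorProduct.lift_tmul _ _ _ _ _, map_one, one_mul, hE2B]
  let F : B →ₐ[Q] B' := IsLocalization.Away.liftAlgHom t
    (f := (IsScalarTower.toAlgHom Q T B').comp δ) (IsLocalization.Away.algebraMap_isUnit (δ t))
  have hF : ∀ x, F (algebraMap (Q ⊗[A] D) B x) = algebraMap T B' (δ x) := fun x =>
    IsLocalization.Away.lift_eq t (g := ((IsScalarTower.toAlgHom Q T B').comp δ).toRingHom)
      (IsLocalization.Away.algebraMap_isUnit (δ t)) x
  have hGu : IsUnit (T2B (δ t)) := by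
    rw [show T2B (δ t) = algebraMap (Q ⊗[A] D) B t from AlgHom.congr_fun hT2B t]
    exact hut
  let G : B' →ₐ[Q] B := IsLocalization.Away.liftAlgHom (δ t) (f := T2B) hGu
  have hG : ∀ x, G (algebraMap T B' x) = T2B x := fun x => IsLocalization.Away.lift_eq (δ t) hGu x
  have hGF : G.comp F = AlgHom.id Q B := IsLocalization.algHom_ext (Submonoid.powers t) (AlgHom.ext fun x => by
    show G (F (algebraMap (Q ⊗[A] D) B x)) = algebraMap (Q ⊗[A] D) B x
    rw [hF, hG]
    exact AlgHom.congr_fun hT2B x)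
  have hFG : F.comp G = AlgHom.id Q B' := by
    refine IsLocalization.algHom_ext (Submonoid.powers (δ t)) ?_
    refine Algebra.TensorProduct.ext (Algebra.ext_id _ _ _) ?_
    refine IsLocalization.algHom_ext (Submonoid.powers g) (AlgHom.ext fun x => ?_)
    show F (G (algebraMap T B' ((1 : Q) ⊗ₜ[A] algebraMap D E x))) =
      algebraMap T B' ((1 : Q) ⊗ₜ[A] algebraMap D E x)
    rw [hG, show T2B ((1 : Q) ⊗ₜ[A] algebraMap D E x) = algebraMap (Q ⊗[A] D) B ((1 : Q) ⊗ₜ[A] x) by
      rw [show T2B ((1 : Q) ⊗ₜ[A] algebraMap D E x) = algebraMap Q B 1 * E2B (algebraMap D E x) from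
        Algebra.TensorProduct.lift_tmul _ _ _ _ _, map_one, one_mul, hE2B], hF]
    simp only [δ, Algebra.TensorProduct.map_tmul, map_one]
    rfl
  haveI : Algebra.Etale Q T := inferInstanceAs (Algebra.Etale Q (Q ⊗[A] E))
  haveI : Algebra.Etale T B' := Algebra.Etale.of_isLocalizationAway (δ t)
  haveI : Algebra.Etale Q B' := Algebra.Etale.comp Q T B'
  haveI : Algebra.Etale Q B := Algebra.Etale.of_equiv (AlgEquiv.ofAlgHom G F hGF hFG)
  -- the neighbourhood
  let A' := Localization.Away a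
  have hua : IsUnit (algebraMap Q B a) := ht ▸ hut
  letI : Algebra A' B := (IsLocalization.Away.lift a (g := algebraMap Q B) hua).toAlgebra
  haveI : IsScalarTower Q A' B := IsScalarTower.of_algebraMap_eq fun x =>
    (IsLocalization.Away.lift_eq a hua x).symm
  haveI : Algebra.Etale Q A' := Algebra.Etale.of_isLocalizationAway a
  haveI : Algebra.Etale A' B := Algebra.Etale.of_restrictScalars Q A' B
  haveI : Algebra.Etale A A' := Algebra.Etale.comp A Q A'
  haveI : Module.Finite A' B := by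
    let μ : A' ⊗[Q] (Q ⊗[A] D) →ₐ[A'] B :=
      Algebra.TensorProduct.lift (Algebra.ofId A' B) (IsScalarTower.toAlgHom Q (Q ⊗[A] D) B) fun _ _ => Commute.all _ _
    refine Module.Finite.of_surjective μ.toLinearMap fun z => ?_
    obtain ⟨x, ⟨_, n, rfl⟩, rfl⟩ := IsLocalization.exists_mk'_eq (Submonoid.powers t) z
    refine ⟨(IsLocalization.mk' A' (1 : Q) (⟨a ^ n, n, rfl⟩ : Submonoid.powers a)) ⊗ₜ[Q] x, ?_⟩
    rw [IsLocalization.eq_mk'_iff_mul_eq]
    show μ (IsLocalization.mk' A' (1 : Q) (⟨a ^ n, n, rfl⟩ : Submonoid.powers a) ⊗ₜ[Q] x) *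
      algebraMap (Q ⊗[A] D) B (t ^ n) = algebraMap (Q ⊗[A] D) B x
    have h2 : algebraMap (Q ⊗[A] D) B (t ^ n) = algebraMap A' B (algebraMap Q A' (a ^ n)) := by
      rw [map_pow, ht, ← IsScalarTower.algebraMap_apply Q A' B, map_pow]
    have h3 : algebraMap A' B (IsLocalization.mk' A' (1 : Q) (⟨a ^ n, n, rfl⟩ : Submonoid.powers a)) *
        algebraMap A' B (algebraMap Q A' (a ^ n)) = 1 := by
      rw [← map_mul, IsLocalization.mk'_spec A' (1 : Q) ((⟨a ^ n, n, rfl⟩ : Submonoid.powers a) : Submonoid.powers a),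
        map_one, map_one]
    rw [h2]
    simp only [μ, Algebra.TensorProduct.lift_tmul]
    show algebraMap A' B _ * algebraMap (Q ⊗[A] D) B x * _ = _
    rw [mul_right_comm, h3, one_mul]
  -- the reduction maps
  have hpta : pt a = 1 := by
    have h : a - 1 ∈ RingHom.ker pt := by rw [hQ]; exact ha
    rw [RingHom.mem_ker, map_sub, map_one, sub_eq_zero] at h
    exact h
  have hptu : IsUnit (pt a) := by rw [hpta]; exact isUnit_one
  let θA : A' →ₐ[A] A ⧸ I := IsLocalization.Away.liftAlgHom a (f := pt) hptu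
  have hθA : ∀ x, θA (algebraMap Q A' x) = pt x := fun x => IsLocalization.Away.lift_eq a hptu x
  let θD : (Q ⊗[A] D) →ₐ[A] B₀ := Algebra.TensorProduct.lift
    ((IsScalarTower.toAlgHom A (A ⧸ I) B₀).comp pt) (θC.comp D.val) fun _ _ => Commute.all _ _
  have hθD : ∀ (x : Q) (y : D), θD (x ⊗ₜ[A] y) = algebraMap (A ⧸ I) B₀ (pt x) * θ (y : C) := fun x y => by
    simp only [θD, Algebra.TensorProduct.lift_tmul]
    rfl
  have hθalg : ∀ x : Q, θD (algebraMap Q (Q ⊗[A] D) x) = algebraMap (A ⧸ I) B₀ (pt x) := fun x => by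
    rw [Algebra.TensorProduct.algebraMap_apply, hθD]
    simp
  have hJD : ∀ z ∈ J.map (algebraMap Q (Q ⊗[A] D)), θD z = 0 := by
    have : J.map (algebraMap Q (Q ⊗[A] D)) ≤ RingHom.ker θD.toRingHom := Ideal.map_le_iff_le_comap.2 fun x hx => by
      show θD (algebraMap Q (Q ⊗[A] D) x) = 0
      rw [hθalg, RingHom.mem_ker.1 (hQ ▸ hx : x ∈ RingHom.ker pt), map_zero]
    exact this
  have hθg : θ (g : C) = 1 := by
    have h : (g : C) - 1 ∈ RingHom.ker θ := by rw [hker]; exact hg1
    rw [RingHom.mem_ker, map_sub, map_one, sub_eq_zero] at h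
    exact h
  have hθε : θD ε = 1 := by
    have h := hJD _ hεg
    rw [map_sub, sub_eq_zero, show θD g' = algebraMap (A ⧸ I) B₀ (pt 1) * θ (g : C) from hθD 1 g,
      map_one, map_one, one_mul, hθg] at h
    exact h
  have hθt : θD t = 1 := by
    rw [map_mul, hθε, hθalg, hpta, map_one, mul_one]
  have hθtu : IsUnit (θD.toRingHom t) := by
    show IsUnit (θD t)
    rw [hθt]; exact isUnit_one
  let θB : B →+* B₀ := IsLocalization.Away.lift t hθtu
  have hθB : ∀ x, θB (algebraMap (Q ⊗[A] D) B x) = θD x := fun x => IsLocalization.Away.lift_eq t hθtu x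
  have hθBQ : ∀ x : Q, θB (algebraMap Q B x) = algebraMap (A ⧸ I) B₀ (pt x) := fun x => by
    rw [IsScalarTower.algebraMap_apply Q (Q ⊗[A] D) B, hθB, hθalg]
  have hθBA : ∀ x : Q, θB (algebraMap A' B (algebraMap Q A' x)) = algebraMap (A ⧸ I) B₀ (pt x) := fun x => by
    rw [← hθBQ x]
    exact congrArg θB (IsLocalization.Away.lift_eq a hua x)
  refine ⟨A', inferInstance, inferInstance, inferInstance, θA, B, inferInstance, inferInstance, θB,
    ?_, inferInstance, inferInstance, ?_, ?_, ?_⟩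
  · refine le_antisymm (fun z hz => ?_) (Ideal.map_le_iff_le_comap.2 fun r hr => ?_)
    · obtain ⟨x, s, rfl⟩ := IsLocalization.exists_mk'_eq (Submonoid.powers a) z
      rw [IsLocalization.mk'_eq_mul_mk'_one]
      refine Ideal.mul_mem_right _ _ ?_
      have hx : pt x = 0 := by
        rw [← hθA, ← IsLocalization.mk'_spec A' x s, map_mul, RingHom.mem_ker.1 hz, zero_mul]
      have hx' : x ∈ RingHom.ker pt := hx
      rw [hQ] at hx'
      have := Ideal.mem_map_of_mem (algebraMap Q A') hx'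
      rwa [Ideal.map_map, ← IsScalarTower.algebraMap_eq] at this
    · rw [Ideal.mem_comap, RingHom.mem_ker, AlgHom.commutes]
      exact Ideal.Quotient.eq_zero_iff_mem.2 hr
  · intro b₀
    obtain ⟨c, rfl⟩ := hθ b₀
    obtain ⟨m, hm⟩ := hgen c
    refine ⟨algebraMap (Q ⊗[A] D) B ((1 : Q) ⊗ₜ[A] ⟨_, hm⟩), ?_⟩
    rw [hθB, hθD]
    simp [hθg]
  · refine le_antisymm (fun z hz => ?_) ?_
    · obtain ⟨x, s, rfl⟩ := IsLocalization.exists_mk'_eq (Submonoid.powers t) z
      rw [IsLocalization.mk'_eq_mul_mk'_one]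
      refine Ideal.mul_mem_right _ _ ?_
      have hx : θD x = 0 := by
        rw [← hθB, ← IsLocalization.mk'_spec B x s, map_mul, RingHom.mem_ker.1 hz, zero_mul]
      -- `x` agrees with some `1 ⊗ y` modulo `J`
      obtain ⟨y, hy⟩ : ∃ y : D, x - (1 : Q) ⊗ₜ[A] y ∈ J.map (algebraMap Q (Q ⊗[A] D)) := by
        clear hx hz
        induction x using TensorProduct.induction_on with
        | zero => exact ⟨0, by simp⟩
        | tmul u v =>
          obtain ⟨r, hr⟩ := Ideal.Quotient.mk_surjective (pt u)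
          have hu : u - algebraMap A Q r ∈ J := by
            show _ ∈ I.map (algebraMap A Q)
            rw [← hQ, RingHom.mem_ker, map_sub, AlgHom.commutes, ← hr]
            exact sub_self _
          refine ⟨r • v, ?_⟩
          rw [TensorProduct.tmul_smul, TensorProduct.smul_tmul', ← TensorProduct.sub_tmul,
            ← Algebra.algebraMap_eq_smul_one,
            show (u - algebraMap A Q r) ⊗ₜ[A] v = algebraMap Q (Q ⊗[A] D) (u - algebraMap A Q r) * (1 ⊗ₜ[A] v) by
              rw [Algebra.TensorProduct.algebraMap_apply, Algebra.TensorProduct.tmul_mul_tmul]; simp]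
          exact Ideal.mul_mem_right _ _ (Ideal.mem_map_of_mem _ hu)
        | add x y hx hy =>
          obtain ⟨u, hu⟩ := hx
          obtain ⟨v, hv⟩ := hy
          refine ⟨u + v, ?_⟩
          rw [TensorProduct.tmul_add, add_sub_add_comm]
          exact add_mem hu hv
      have hy0 : θ (y : C) = 0 := by
        have h := hJD _ hy
        rw [map_sub, hx, zero_sub, neg_eq_zero, hθD] at h
        simpa using h
      have hy1 : (y : C) ∈ I.map (algebraMap A C) := by rw [← hker]; exact hy0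
      have h1 : algebraMap (Q ⊗[A] D) B ((1 : Q) ⊗ₜ[A] y) ∈ I.map (algebraMap A B) := by
        rw [← hE2B]
        exact mem_map_algHom (E2B.comp (IsScalarTower.toAlgHom A C E)) I hy1
      have h2 : algebraMap (Q ⊗[A] D) B (x - (1 : Q) ⊗ₜ[A] y) ∈ I.map (algebraMap A B) := by
        have := Ideal.mem_map_of_mem (algebraMap (Q ⊗[A] D) B) hy
        rwa [Ideal.map_map, ← IsScalarTower.algebraMap_eq Q (Q ⊗[A] D) B, Ideal.map_map,
          ← IsScalarTower.algebraMap_eq A Q B] at this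
      have h3 := add_mem h2 h1
      rw [← map_add, sub_add_cancel] at h3
      rw [Ideal.map_map]
      have e : (algebraMap A' B).comp (algebraMap A A') = algebraMap A B := by
        rw [IsScalarTower.algebraMap_eq A Q A', ← RingHom.comp_assoc, ← IsScalarTower.algebraMap_eq Q A' B,
          ← IsScalarTower.algebraMap_eq A Q B]
      rw [e]
      exact h3
    · rw [Ideal.map_map]
      refine Ideal.map_le_iff_le_comap.2 fun r hr => ?_
      rw [Ideal.mem_comap, RingHom.mem_ker, RingHom.comp_apply, IsScalarTower.algebraMap_apply A Q A',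
        ← IsScalarTower.algebraMap_apply Q A' B, IsScalarTower.algebraMap_apply Q (Q ⊗[A] D) B, hθB, hθalg,
        AlgHom.commutes, show algebraMap A (A ⧸ I) r = 0 from Ideal.Quotient.eq_zero_iff_mem.2 hr, map_zero]
  · intro z
    have hall : ∀ x : Q, θB (algebraMap A' B (algebraMap Q A' x)) =
        algebraMap (A ⧸ I) B₀ (θA (algebraMap Q A' x)) := fun x => by
      rw [hθA x, hθBA x]
    obtain ⟨x, s, rfl⟩ := IsLocalization.exists_mk'_eq (Submonoid.powers a) z
    have hs : IsUnit (algebraMap (A ⧸ I) B₀ (θA (algebraMap Q A' s))) :=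
      ((IsLocalization.map_units A' s).map θA).map (algebraMap (A ⧸ I) B₀)
    refine hs.mul_right_cancel ?_
    rw [← map_mul (algebraMap (A ⧸ I) B₀), ← map_mul θA, IsLocalization.mk'_spec, ← hall x, ← hall s,
      ← map_mul θB, ← map_mul (algebraMap A' B), IsLocalization.mk'_spec]

end Groth.Agent.EtNbhdFin
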